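import Cfsg.Agent.H549.PBA.Val
import Cfsg.Agent.H706.PB.Defs
import Cfsg.Agent.H635.SB.Tools
import Cfsg.Agent.H799.SymSyl
import Cfsg.Agent.H709.BR.Alt

/-!
# S4884: the alternating groups (helper549)

The `q`-element `y` whose cycle lengths are the `q`-adic expansion of `n`: an irreducible character of `A_n` of degree
divisible by `q` and its conjugate under an odd permutation have values at `y` with sum zero (`Val`), so weak block
orthogonality modulo `2` gives a nontrivial character of odd degree, prime to `q`, in the principal `q`-block of `A_n`.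
-/

set_option autoImplicit false
set_option linter.unusedSectionVars false
set_option linter.unusedVariables false

open Cfsg

namespace Cfsg.Agent.H549.PBA

open Cfsg.Agent.H317.PQ Cfsg.Agent.Blocks.Basic Cfsg.Agent.Blocks Cfsg.Agent.Blocks.Local Cfsg.Agent.H614
open Cfsg.Agent.Characters.Core Cfsg.Agent.Characters.Clifford
open scoped ComplexConjugate

universe u v

section Two

variable {G : Type u} [Group G] [Fintype G]

/-- restriction to a normal subgroup of index two -/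
theorem restrict_pair (N : Subgroup G) [N.Normal] [Fintype N] (hN2 : N.index = 2) {τ : G} (hτ : τ ∉ N)
    (χ : IrrCharacter G) (θ : IrrCharacter N) (hχ : classInner (fun n : N => (χ : G → ℂ) n) (θ : N → ℂ) ≠ 0) :
    ∃ c : ℕ, c ≠ 0 ∧ ((∀ y : N, (χ : G → ℂ) y = c * (θ : N → ℂ) y ∧ (θ : N → ℂ) (MulAut.conjNormal τ y) = (θ : N → ℂ) y) ∨
      ∀ y : N, (χ : G → ℂ) y = c * ((θ : N → ℂ) y + (θ : N → ℂ) (MulAut.conjNormal τ y))) := by
  classical
  have hfin : Finite (IrrCharacter N) := finite_irr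
  have := Fintype.ofFinite (IrrCharacter N)
  have hres : IsCharacter N (fun n : N => (χ : G → ℂ) n) := isCharacter_restrict N (isIrr_isCharacter χ.2)
  obtain ⟨c, hc⟩ := classInner_isNat hres (isIrr_isCharacter θ.2)
  have hc0 : c ≠ 0 := by
    rintro rfl
    rw [Nat.cast_zero] at hc
    exact hχ hc
  refine ⟨c, hc0, ?_⟩
  let θ' : IrrCharacter N := ⟨(θ : N → ℂ) ∘ (MulAut.conjNormal τ : MulAut N),
    isIrr_comp (MulAut.conjNormal τ : MulAut N).toMonoidHom (MulAut.conjNormal τ : MulAut N).surjective θ.2⟩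
  have hc' : classInner (fun n : N => (χ : G → ℂ) n) (θ' : N → ℂ) = c :=
    (classInner_restrict_conjNormal (isIrr_isClassFunction χ.2) _ τ).trans hc
  have hother : ∀ η : IrrCharacter N, classInner (fun n : N => (χ : G → ℂ) n) (η : N → ℂ) ≠ 0 → η = θ ∨ η = θ' := by
    intro η hη
    obtain ⟨g, hg⟩ := exists_conj_of_constituents N χ.2 θ.2 η.2 hχ hη
    by_cases hgN : g ∈ N
    · left
      apply Subtype.ext
      rw [hg]
      funext y
      have h1 : (MulAut.conjNormal g : MulAut N) y = ⟨g, hgN⟩ * y * ⟨g, hgN⟩⁻¹ := Subtype.ext rfl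
      rw [Function.comp_apply, h1]
      exact isIrr_isClassFunction θ.2 _ _
    · right
      apply Subtype.ext
      rw [hg]
      have h2 : g * τ⁻¹ ∈ N := by
        rw [Subgroup.mul_mem_iff_of_index_two hN2, inv_mem_iff]
        exact ⟨fun h => absurd h hgN, fun h => absurd h hτ⟩
      funext y
      have h1 : (MulAut.conjNormal g : MulAut N) y =
          ⟨g * τ⁻¹, h2⟩ * (MulAut.conjNormal τ : MulAut N) y * ⟨g * τ⁻¹, h2⟩⁻¹ := by
        apply Subtype.ext
        show g * y * g⁻¹ = g * τ⁻¹ * (τ * y * τ⁻¹) * (g * τ⁻¹)⁻¹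
        group
      show (θ : N → ℂ) ((MulAut.conjNormal g : MulAut N) y) = (θ : N → ℂ) ((MulAut.conjNormal τ : MulAut N) y)
      rw [h1]
      exact isIrr_isClassFunction θ.2 _ _
  have hsum := classFunction_eq_sum (isCharacter_isClassFunction hres)
  by_cases hθ : θ' = θ
  · left
    intro y
    constructor
    · have h1 := congrFun hsum y
      rw [h1, Finset.sum_apply, Finset.sum_eq_single θ]
      · rw [Pi.smul_apply, hc, smul_eq_mul]
      · intro η _ hne
        have h2 : classInner (fun n : N => (χ : G → ℂ) n) (η : N → ℂ) = 0 := by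
          by_contra hcon
          rcases hother η hcon with h | h
          · exact hne h
          · exact hne (h.trans hθ)
        rw [Pi.smul_apply, h2, zero_smul]
      · intro h
        exact absurd (Finset.mem_univ _) h
    · exact congrFun (congrArg Subtype.val hθ) y
  · right
    intro y
    have h1 := congrFun hsum y
    rw [h1, Finset.sum_apply, ← Finset.sum_subset (Finset.subset_univ {θ, θ'}), Finset.sum_pair (Ne.symm hθ)]
    · rw [Pi.smul_apply, Pi.smul_apply, hc, hc', smul_eq_mul, smul_eq_mul, ← mul_add]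
      rfl
    · intro η _ hne
      rw [Finset.mem_insert, Finset.mem_singleton, not_or] at hne
      have h2 : classInner (fun n : N => (χ : G → ℂ) n) (η : N → ℂ) = 0 := by
        by_contra hcon
        rcases hother η hcon with h | h
        · exact hne.1 h
        · exact hne.2 h
      rw [Pi.smul_apply, h2, zero_smul]

/-- the values at `y` of `θ` and its conjugate have sum zero if the characters above `θ` vanish at `y` -/
theorem pair_zero (N : Subgroup G) [N.Normal] [Fintype N] (hN2 : N.index = 2) {τ : G} (hτ : τ ∉ N)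
    (θ : IrrCharacter N) (y : N)
    (hv : ∀ χ : IrrCharacter G, charDegree (θ : N → ℂ) ∣ charDegree (χ : G → ℂ) → (χ : G → ℂ) y = 0) :
    (θ : N → ℂ) y + (θ : N → ℂ) (MulAut.conjNormal τ y) = 0 := by
  obtain ⟨χ, hχ⟩ := Over.exists_over N θ
  obtain ⟨c, hc0, hc⟩ := restrict_pair N hN2 hτ χ θ hχ
  have hc0' : (c : ℂ) ≠ 0 := Nat.cast_ne_zero.2 hc0
  obtain ⟨-, hdχ⟩ := H614.charDegree_pos χ.2
  obtain ⟨-, hdθ⟩ := H614.charDegree_pos θ.2
  rcases hc with hc | hc
  · have h1 := (hc 1).1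
    rw [Subgroup.coe_one, hdχ, hdθ] at h1
    have h2 : charDegree (χ : G → ℂ) = c * charDegree (θ : N → ℂ) := by exact_mod_cast h1
    have h3 := hv χ (h2 ▸ dvd_mul_left _ _)
    obtain ⟨h4, h5⟩ := hc y
    rw [h3] at h4
    have h6 : (θ : N → ℂ) y = 0 := by
      rcases mul_eq_zero.1 h4.symm with h | h
      · exact absurd h hc0'
      · exact h
    rw [h5, h6, add_zero]
  · have h1 := hc 1
    rw [Subgroup.coe_one, map_one, hdχ, hdθ] at h1
    have h2 : charDegree (χ : G → ℂ) = c * (charDegree (θ : N → ℂ) + charDegree (θ : N → ℂ)) := by exact_mod_cast h1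
    have h3 := hv χ (by rw [h2, ← two_mul, ← mul_assoc]; exact dvd_mul_left _ _)
    have h4 := hc y
    rw [h3] at h4
    rcases mul_eq_zero.1 h4.symm with h | h
    · exact absurd h hc0'
    · exact h

end Two

/-- **T2** with an automorphism -/
theorem exists_odd_pair {G : Type u} [Group G] [Finite G] {q : ℕ} (hq : q.Prime) {y : G} (hy : q ∣ orderOf y)
    (a : MulAut G)
    (hv : ∀ χ : IrrCharacter G, ¬ 2 ∣ charDegree (χ : G → ℂ) → q ∣ charDegree (χ : G → ℂ) →
      (χ : G → ℂ) y + (χ : G → ℂ) (a y) = 0) :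
    ∃ χ : IrrCharacter G, χ ∈ B0 q G ∧ ¬ 2 ∣ charDegree (χ : G → ℂ) ∧ ¬ q ∣ charDegree (χ : G → ℂ) ∧
      (χ : G → ℂ) ≠ fun _ => 1 := by
  classical
  have hqF : Fact q.Prime := ⟨hq⟩
  have h2F : Fact (Nat.Prime 2) := ⟨Nat.prime_two⟩
  obtain ⟨M, hM⟩ := ExistsModular.exists_isPModular hq
  obtain ⟨M2, hM2⟩ := ExistsModular.exists_isPModular Nat.prime_two
  have hMp := Local.isPrime_of_isPModular hM
  have hM2p := Local.isPrime_of_isPModular hM2
  have hfin : Finite (IrrCharacter G) := S0909.finite_irr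
  have := Fintype.ofFinite (IrrCharacter G)
  by_contra hcon
  push Not at hcon
  have h1 := Orthogonality.weak_block_orthogonality hM (B0 q G) (fun g => by
    rw [B0_eq hq hM]
    exact Osima.memLocalRing_blockCoeff hM PrincipalSection.isPBlock_principalBlock g)
    (x := (1 : G)) (y := y) (by rw [orderOf_one]; exact hq.one_lt.not_ge ∘ Nat.le_of_dvd one_pos) hy
  rw [Orthogonality.finsum_mem_eq_sum_filter] at h1
  let one : IrrCharacter G := ⟨_, isIrrCharacter_one⟩
  have hone : one ∈ Finset.univ.filter (fun χ : IrrCharacter G => χ ∈ B0 q G) := by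
    rw [Finset.mem_filter]
    exact ⟨Finset.mem_univ _, H635.PQ.triv_mem hq⟩
  rw [← Finset.add_sum_erase _ _ hone] at h1
  -- the characters of odd degree divisible by `q`
  set T : Finset (IrrCharacter G) := Finset.univ.filter (fun χ : IrrCharacter G => χ ∈ B0 q G ∧
    ¬ 2 ∣ charDegree (χ : G → ℂ) ∧ q ∣ charDegree (χ : G → ℂ)) with hT
  have hT0 : ∑ χ ∈ T, (χ : G → ℂ) 1 * conj ((χ : G → ℂ) y) = 0 := by
    have hdeg : ∀ χ : IrrCharacter G, charDegree ((H649.irrMap a.symm χ : IrrCharacter G) : G → ℂ) =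
        charDegree (χ : G → ℂ) := by
      intro χ
      have h6 : ((H649.irrMap a.symm χ : IrrCharacter G) : G → ℂ) 1 = (χ : G → ℂ) 1 := H649.irrMap_one a.symm χ
      rw [irr_one_eq_charDegree (H649.irrMap a.symm χ).2, irr_one_eq_charDegree χ.2] at h6
      exact_mod_cast h6
    have h2 : ∑ χ ∈ T, (χ : G → ℂ) 1 * conj ((χ : G → ℂ) y) =
        ∑ χ ∈ T, (χ : G → ℂ) 1 * conj ((χ : G → ℂ) (a y)) := by
      refine (Finset.sum_equiv (H649.irrEquiv a.symm) ?_ ?_).symm
      · intro χ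
        rw [hT, Finset.mem_filter, Finset.mem_filter, H649.irrEquiv_apply, hdeg, H358.A3.B0_irrMap]
        simp only [Finset.mem_univ]
      · intro χ _
        rw [H649.irrEquiv_apply, H649.irrMap_one]
        rfl
    have h3 : ∑ χ ∈ T, (χ : G → ℂ) 1 * conj ((χ : G → ℂ) y) +
        ∑ χ ∈ T, (χ : G → ℂ) 1 * conj ((χ : G → ℂ) (a y)) = 0 := by
      rw [← Finset.sum_add_distrib]
      refine Finset.sum_eq_zero fun χ hχ => ?_
      obtain ⟨-, -, hd2, hdq⟩ := Finset.mem_filter.1 hχ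
      rw [← mul_add, ← map_add, hv χ hd2 hdq, map_zero, mul_zero]
    rw [← h2, ← two_mul] at h3
    rcases mul_eq_zero.1 h3 with h | h
    · exact absurd h two_ne_zero
    · exact h
  rw [← Finset.sum_filter_add_sum_filter_not ((Finset.univ.filter (fun χ : IrrCharacter G => χ ∈ B0 q G)).erase one)
    (fun χ : IrrCharacter G => ¬ 2 ∣ charDegree (χ : G → ℂ) ∧ q ∣ charDegree (χ : G → ℂ))] at h1
  have hTeq : ((Finset.univ.filter (fun χ : IrrCharacter G => χ ∈ B0 q G)).erase one).filter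
      (fun χ : IrrCharacter G => ¬ 2 ∣ charDegree (χ : G → ℂ) ∧ q ∣ charDegree (χ : G → ℂ)) = T := by
    ext χ
    rw [Finset.mem_filter, Finset.mem_erase, Finset.mem_filter, hT, Finset.mem_filter]
    constructor
    · rintro ⟨⟨-, h1, h2⟩, h3⟩
      exact ⟨h1, h2, h3⟩
    · rintro ⟨h1, h2, h3⟩
      refine ⟨⟨?_, h1, h2⟩, h3⟩
      rintro rfl
      have h4 : charDegree ((one : IrrCharacter G) : G → ℂ) = 1 := charDegree_of_eq (by simp [one])
      rw [h4] at h3
      exact hq.one_lt.ne' (Nat.dvd_one.1 h3.2)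
  rw [hTeq, hT0, zero_add] at h1
  have h2 : MemLocalIdeal M2 (∑ χ ∈ ((Finset.univ.filter (fun χ : IrrCharacter G => χ ∈ B0 q G)).erase one).filter
      (fun χ : IrrCharacter G => ¬ (¬ 2 ∣ charDegree (χ : G → ℂ) ∧ q ∣ charDegree (χ : G → ℂ))),
      (χ : G → ℂ) 1 * conj ((χ : G → ℂ) y)) := by
    refine memLocalIdeal_sum fun χ hχ => ?_
    obtain ⟨hχ', hP⟩ := Finset.mem_filter.1 hχ
    obtain ⟨hne, hmem⟩ := Finset.mem_erase.1 hχ'
    have hmem' := (Finset.mem_filter.1 hmem).2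
    by_cases hd2 : 2 ∣ charDegree (χ : G → ℂ)
    · rw [irr_one_eq_charDegree χ.2]
      refine memLocalIdeal_mul_right ((memLocalIdeal_natCast_iff hM2 _).2 hd2) ?_
      have h3 : conj ((χ : G → ℂ) y) = (χ : G → ℂ) y⁻¹ := by
        rw [Characters.Core.isCharacter_apply_inv (Characters.Core.isIrr_isCharacter χ.2)]
      rw [h3]
      exact FullDefect.memLocalRing_irr χ y⁻¹
    · by_cases hdq : q ∣ charDegree (χ : G → ℂ)
      · exact absurd ⟨hd2, hdq⟩ hP
      · exact absurd (Subtype.ext (hcon χ hmem' hd2 hdq)) hne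
  have h3 : ((one : IrrCharacter G) : G → ℂ) 1 * conj (((one : IrrCharacter G) : G → ℂ) y) = 1 := by
    show (1 : ℂ) * conj (1 : ℂ) = 1
    simp
  rw [h3] at h1
  have h4 : MemLocalIdeal M2 (1 : ℂ) := by
    have h5 := memLocalIdeal_neg h2
    rw [← eq_neg_iff_add_eq_zero.2 h1] at h5
    exact h5
  have h6 := (memLocalIdeal_natCast_iff hM2 1).1 (by simpa using h4)
  norm_num at h6

/-! ### the `q`-adic class -/

theorem exists_y {q n : ℕ} (hq : q.Prime) (hq2 : q ≠ 2) (hqn : q ≤ n) :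
    ∃ (y : Equiv.Perm (Fin n)) (L : ℕ), n < q ^ L ∧ ty y = dg q n 0 L ∧ y ∈ alternatingGroup (Fin n) ∧ q ∣ orderOf y := by
  have hq3 : 3 ≤ q := by
    have := hq.two_le
    omega
  obtain ⟨k, hk⟩ : ∃ k, n < q ^ (1 + k) := ⟨n, (Nat.lt_pow_self hq.one_lt).trans_le (Nat.pow_le_pow_right hq.pos (by omega))⟩
  have h1 := sum_dg q n 1 k
  rw [Nat.div_eq_of_lt hk, mul_zero, add_zero, pow_one] at h1
  have hpow : ∀ x ∈ dg q n 1 k, q ∣ x ∧ 2 ≤ x ∧ Odd x := by
    intro x hx
    obtain ⟨i, rfl⟩ := mem_dg hx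
    refine ⟨dvd_pow_self q (by omega), ?_, (hq.odd_of_ne_two hq2).pow⟩
    calc 2 ≤ q ^ 1 := by rw [pow_one]; omega
      _ ≤ q ^ (1 + i) := Nat.pow_le_pow_right hq.pos (by omega)
  obtain ⟨y, hy⟩ := (Equiv.Perm.exists_with_cycleType_iff (Fin n) (m := dg q n 1 k)).2
    ⟨by rw [h1, Fintype.card_fin]; exact Nat.mul_div_le n q, fun x hx => (hpow x hx).2.1⟩
  refine ⟨y, 1 + k, hk, ?_, ?_, ?_⟩
  · rw [ty_eq, hy, h1, Fintype.card_fin, dg_add, zero_add, add_comm]
    congr 1
    have h2 : dg q n 0 1 = Multiset.replicate (n % q) 1 := by simp [dg]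
    rw [h2]
    congr 1
    have := Nat.mod_add_div n q
    omega
  · rw [Equiv.Perm.mem_alternatingGroup, Equiv.Perm.sign_of_cycleType', hy]
    apply Multiset.prod_eq_one
    intro u hu
    obtain ⟨x, hx, rfl⟩ := Multiset.mem_map.1 hu
    rw [(hpow x hx).2.2.neg_one_pow, neg_neg]
  · have h3 : dg q n 1 k ≠ 0 := by
      intro h0
      rw [h0, Multiset.sum_zero] at h1
      have h4 : 0 < n / q := Nat.div_pos hqn hq.pos
      have := Nat.mul_pos hq.pos h4
      omega
    obtain ⟨x, hx⟩ := Multiset.exists_mem_of_ne_zero h3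
    exact (hpow x hx).1.trans (Equiv.Perm.dvd_of_mem_cycleType (by rw [hy]; exact hx))

theorem exists_odd_alt {q n : ℕ} (hq : q.Prime) (hq2 : q ≠ 2) (hqn : q ≤ n) :
    ∃ χ : IrrCharacter (alternatingGroup (Fin n)), χ ∈ B0 q (alternatingGroup (Fin n)) ∧
      ¬ 2 ∣ charDegree (χ : alternatingGroup (Fin n) → ℂ) ∧ ¬ q ∣ charDegree (χ : alternatingGroup (Fin n) → ℂ) ∧
      (χ : alternatingGroup (Fin n) → ℂ) ≠ fun _ => 1 := by
  classical
  have hqF : Fact q.Prime := ⟨hq⟩
  have hq2' := hq.two_le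
  have hnt : Nontrivial (Fin n) := Fin.nontrivial_iff_two_le.2 (by omega)
  obtain ⟨y, L, hL, hty, hyA, hyo⟩ := exists_y hq hq2 hqn
  obtain ⟨a, b, hab⟩ := exists_pair_ne (Fin n)
  have hτ : Equiv.swap a b ∉ alternatingGroup (Fin n) := by
    rw [Equiv.Perm.mem_alternatingGroup, Equiv.Perm.sign_swap hab]
    decide
  refine exists_odd_pair hq (y := ⟨y, hyA⟩) ?_ (MulAut.conjNormal (Equiv.swap a b)) fun χ _ hd => ?_
  · rwa [← Subgroup.orderOf_coe]
  · refine pair_zero (alternatingGroup (Fin n)) alternatingGroup.index_eq_two hτ χ ⟨y, hyA⟩ fun ψ hψ => ?_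
    obtain ⟨β, hβ, hs, hβψ⟩ := irr_eq (α := Fin n) (m := n) (by rw [Fintype.card_fin]) ψ.2
    have h1 := hd.trans hψ
    rw [hβψ, charDegree_ch hβ hs] at h1
    show (ψ : Equiv.Perm (Fin n) → ℂ) y = 0
    rw [hβψ, ch_apply, hty]
    by_contra hcon
    have h2 : FM (dg q n 0 L) β ≠ 0 := fun h => hcon (by rw [h]; simp)
    rw [Fintype.card_fin] at hs h1
    have h3 := val_zero_of_ne (q := q) hL hs h2
    have h4 : Int.natAbs (FM (Multiset.replicate n 1) β) ≠ 0 := by
      have := FM_ones_pos n hβ hs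
      omega
    rw [padicValNat.eq_zero_iff] at h3
    rcases h3 with h3 | h3 | h3
    · exact hq.one_lt.ne' h3
    · exact h4 h3
    · exact h3 h1

/-! ### odd degrees -/

theorem odd_mem {G : Type u} [Group G] [Finite G] {U : Subgroup G} (hU : IsPGroup 2 U)
    (hC : ∀ y ∈ Subgroup.centralizer (U : Set G), ¬ 2 ∣ orderOf y → y = 1) {χ : IrrCharacter G}
    (hd : ¬ 2 ∣ charDegree (χ : G → ℂ)) : χ ∈ B0 2 G := by
  have h2F : Fact (Nat.Prime 2) := ⟨Nat.prime_two⟩
  intro M hM
  refine H493.RatB.mem_of_value hM hU χ hd fun y hy hy2 => ?_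
  rw [hC y hy hy2, sub_self]
  have := Local.isPrime_of_isPModular hM
  exact memLocalIdeal_zero

theorem five_aux : ∀ y : Equiv.Perm (Fin 5), y * (Equiv.swap 0 1 * Equiv.swap 2 3) = (Equiv.swap 0 1 * Equiv.swap 2 3) * y →
    Equiv.Perm.sign y = 1 → y ^ 2 = 1 := by
  decide +kernel

theorem odd_mem_alt {n : ℕ} (hn : 5 ≤ n) {χ : IrrCharacter (alternatingGroup (Fin n))}
    (hd : ¬ 2 ∣ charDegree (χ : alternatingGroup (Fin n) → ℂ)) : χ ∈ B0 2 (alternatingGroup (Fin n)) := by
  classical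
  have h2F : Fact (Nat.Prime 2) := ⟨Nat.prime_two⟩
  rcases Nat.lt_or_ge n 6 with h6 | h6
  · obtain rfl : n = 5 := by omega
    let x : alternatingGroup (Fin 5) := ⟨Equiv.swap 0 1 * Equiv.swap 2 3, by
      rw [Equiv.Perm.mem_alternatingGroup]; decide⟩
    have hx : x ^ 2 = 1 := Subtype.ext (by decide)
    have hU : IsPGroup 2 (Subgroup.zpowers x) := by
      intro g
      obtain ⟨k, hk⟩ := g.2
      refine ⟨1, Subtype.ext ?_⟩
      have hk' : x ^ k = (g : alternatingGroup (Fin 5)) := hk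
      show (g : alternatingGroup (Fin 5)) ^ 2 ^ 1 = 1
      rw [← hk', pow_one, ← zpow_natCast, ← zpow_mul, mul_comm, zpow_mul, zpow_natCast, hx, one_zpow]
    refine odd_mem hU (fun y hy hy2 => ?_) hd
    have h1 : x * y = y * x := Subgroup.mem_centralizer_iff.1 hy x (Subgroup.mem_zpowers x)
    have h2 : (y : Equiv.Perm (Fin 5)) ^ 2 = 1 :=
      five_aux y (congrArg Subtype.val h1).symm (Equiv.Perm.mem_alternatingGroup.1 y.2)
    have h3 : y ^ 2 = 1 := Subtype.ext h2
    rcases (Nat.dvd_prime Nat.prime_two).1 (orderOf_dvd_of_pow_eq_one h3) with h | h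
    · exact orderOf_eq_one_iff.1 h
    · exact absurd (h ▸ dvd_rfl) hy2
  · obtain ⟨P⟩ : Nonempty (Sylow 2 (alternatingGroup (Fin n))) := inferInstance
    refine odd_mem P.2 (fun y hy hy2 => ?_) hd
    have h1 := H799.SymSyl.normalizer_alt (α := Fin n) (by rw [Fintype.card_fin]; exact h6) P
    have h2 : y ∈ Subgroup.normalizer ((P : Subgroup (alternatingGroup (Fin n))) : Set (alternatingGroup (Fin n))) :=
      Subgroup.centralizer_le_normalizer _ hy
    rw [h1] at h2
    obtain ⟨k, hk⟩ := P.2 ⟨y, h2⟩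
    have h3 : y ^ 2 ^ k = 1 := congrArg Subtype.val hk
    obtain ⟨i, -, hi⟩ := (Nat.dvd_prime_pow Nat.prime_two).1 (orderOf_dvd_of_pow_eq_one h3)
    rcases Nat.eq_zero_or_pos i with rfl | hi0
    · exact orderOf_eq_one_iff.1 (by rw [hi, pow_zero])
    · exact absurd (by rw [hi]; exact dvd_pow_self 2 hi0.ne') hy2

/-! ### the row -/

theorem noOut_alt {n : ℕ} (hn : 5 ≤ n) : H706.PB.NoOut 2 (alternatingGroup (Fin n)) := by
  intro a ha _
  have hc : Subgroup.center ↥(alternatingGroup (Fin n)) = ⊥ :=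
    alternatingGroup.center_eq_bot (α := Fin n) (by rw [Nat.card_eq_fintype_card, Fintype.card_fin]; omega)
  have hco : (orderOf a).Coprime 2 := ((Nat.prime_two.coprime_iff_not_dvd).2 ha).symm
  by_cases h6 : n = 6
  · subst h6
    obtain ⟨g, hg⟩ := H709.BR.inner_of_odd hc H709.BR.card_aut_alt6 (pow_orderOf_eq_one a)
      (Nat.Coprime.pow_right 2 hco : (orderOf a).Coprime (2 ^ 2))
    exact ⟨g, hg.symm⟩
  · obtain ⟨g, hg⟩ := H709.BR.inner_of_odd hc (n := 2) (by
      rw [H709.BR.card_aut_alt n (by omega) h6, H709.BR.card_alt n (by omega)]) (pow_orderOf_eq_one a) hco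
    exact ⟨g, hg.symm⟩

theorem rowB_alt {q n : ℕ} (hq : q.Prime) (hq2 : q ≠ 2) (hn : 5 ≤ n) (hqn : q ≤ n) :
    H706.PB.RowB q (alternatingGroup (Fin n)) := by
  intro M2 Mq hM2 hMq
  obtain ⟨χ, h1, h2, h3, h4⟩ := exists_odd_alt hq hq2 hqn
  exact ⟨χ, odd_mem_alt hn h2 M2 hM2, h1 Mq hMq, h4, h2, h3⟩

/-- **S4884, the alternating groups** -/
theorem alt (q : ℕ) [hq : Fact q.Prime] (hq2 : q ≠ 2) : H706.PB.RowFor q (fun X _ => IsAlternating X) := by
  intro X _ _ _ hna hd hX
  obtain ⟨n, hn, ⟨e⟩⟩ := hX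
  have hqn : q ≤ n := by
    have h1 : q ∣ Nat.card (alternatingGroup (Fin n)) := by rwa [← Nat.card_congr e.toEquiv]
    have h2 : q ∣ n.factorial := by
      rw [← H709.BR.card_alt n (by omega)]
      exact h1.mul_left 2
    exact (hq.out.dvd_factorial).1 h2
  exact H706.PB.Row.congr e (Or.inr ⟨rowB_alt hq.out hq2 hn hqn, Or.inl (noOut_alt hn)⟩)

end Cfsg.Agent.H549.PBA
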